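import Cfsg.Agent.H803.Rl.Big
import Cfsg.Agent.H925.Rs.Fct

/-!
# S3691, `PSp_2m(q)`, `m ≥ 5`: large primitive prime powers (helper803, for helper925)
-/

set_option autoImplicit false

namespace Cfsg.Agent.H803.Rs

open Cfsg.Agent.H884.El Cfsg.Agent.H925.Rs Cfsg.Agent.Lib.Zsigmondy

/-- explicit primitive primes -/
theorem pp_ex {p N r : ℕ} (hp : 2 ≤ p) (hN : 1 ≤ N) (hr : r.Prime) (h1 : r ∣ p ^ N - 1)
    (h2 : ∀ i ∈ Finset.range N, 1 ≤ i → ¬ r ∣ p ^ i - 1) : PP p N r := by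
  refine ⟨hr, ?_⟩
  have h4 := (dvd_pow_sub_one_iff (by omega) N).1 h1
  have h5 : 0 < orderOf ((p : ℕ) : ZMod r) := Nat.pos_of_dvd_of_pos h4 (by omega)
  by_contra hne
  have h6 : orderOf ((p : ℕ) : ZMod r) < N := lt_of_le_of_ne (Nat.le_of_dvd (by omega) h4) hne
  exact h2 _ (Finset.mem_range.2 h6) h5 ((dvd_pow_sub_one_iff (by omega) _).2 dvd_rfl)

theorem gd_of_big {p f k r a : ℕ} (h : Cfsg.Agent.H851.Rl.Big p f k r a) : Gd p f k r a :=
  ⟨⟨h.prime, h.ord⟩, h.big, h.dvd⟩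

/-- **(GD)** -/
theorem exists_gd {p f m : ℕ} (hp : p.Prime) (hf : 1 ≤ f) (hm : 5 ≤ m) (hq5 : m = 5 → 3 < p ^ f) (hq7 : m ≤ 7 → 2 < p ^ f)
    {i : ℕ} (hi : i = m ∨ i + 1 = m)
    (hb : ¬ ((p ^ f = 2 ∧ (i = 9 ∨ i = 10)) ∨ (p ^ f = 3 ∧ i = 9))) : ∃ r a, Gd p f (2 * i) r a := by
  obtain ⟨r, hr⟩ := Cfsg.Agent.H803.Rl.exists_big (p := p) (f := f) (k := 2 * i) hp hf (by omega) (by
    intro hex
    simp only [List.mem_cons, Prod.mk.injEq, List.not_mem_nil, or_false] at hex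
    rcases hex with h | h | h | h | h | h | h | h | h | h | h | h <;> obtain ⟨rfl, rfl, h3⟩ := h <;>
      norm_num at hq5 hq7 hb <;> omega)
  exact ⟨r, _, gd_of_big hr⟩

theorem gd_2_16 : Gd 2 1 16 257 1 :=
  ⟨pp_ex (by norm_num) (by norm_num) (by norm_num) (by decide) (by decide), by norm_num, by decide⟩

theorem gd_2_14 : Gd 2 1 14 43 1 :=
  ⟨pp_ex (by norm_num) (by norm_num) (by norm_num) (by decide) (by decide), by norm_num, by decide⟩

theorem gd_3_16 : Gd 3 1 16 193 1 :=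
  ⟨pp_ex (by norm_num) (by norm_num) (by norm_num) (by decide) (by decide), by norm_num, by decide⟩

theorem gd_3_14 : Gd 3 1 14 547 1 :=
  ⟨pp_ex (by norm_num) (by norm_num) (by norm_num) (by decide) (by decide), by norm_num, by decide⟩

theorem pp_2_20 : PP 2 (1 * 20) 41 := pp_ex (by norm_num) (by norm_num) (by norm_num) (by decide) (by decide)

theorem pp_2_18 : PP 2 (1 * 18) 19 := pp_ex (by norm_num) (by norm_num) (by norm_num) (by decide) (by decide)

theorem pp_3_18 : PP 3 (1 * 18) 19 := pp_ex (by norm_num) (by norm_num) (by norm_num) (by decide) (by decide)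

theorem pp_2_10 : PP 2 (1 * 10) 11 := pp_ex (by norm_num) (by norm_num) (by norm_num) (by decide) (by decide)

theorem pp_2_9 : PP 2 (1 * 9) 73 := pp_ex (by norm_num) (by norm_num) (by norm_num) (by decide) (by decide)

theorem pp_3_9 : PP 3 (1 * 9) 757 := pp_ex (by norm_num) (by norm_num) (by norm_num) (by decide) (by decide)

end Cfsg.Agent.H803.Rs
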